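import Cfsg.Agent.H714.S4547.Upper
import Cfsg.Agent.H514.K547.Defs
import Cfsg.Agent.H740.K4.Four
import Cfsg.Agent.Blocks.QuaternionCount
import Cfsg.Agent.Blocks.SylowColumns

/-!
# S4547: `XCond G` gives at most four good characters (helper714)
-/

set_option autoImplicit false

open scoped ComplexConjugate
open Cfsg Cfsg.Agent.Characters.Core Cfsg.Agent.H618.Sigma Cfsg.Agent.H821.K547 Cfsg.Agent.H514.K547

namespace Cfsg.Agent.H714.S4547

universe u

variable {G : Type u} [Group G]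

/-- the good characters are the characters counted by `fnum` -/
theorem fg_eq_fnum [Finite G] {M : Ideal AlgInt} (hM : IsPModular 2 M) {k : ℕ} (hk : Cube G k) :
    fg G = fnum M k G := by
  unfold fg fnum gs
  rw [← Nat.card_coe_set_eq]
  refine Nat.card_congr ?_
  refine
    { toFun := fun χ => ⟨⟨χ.1, χ.2.odd.1⟩, χ.2.b0 M hM χ.2.odd.1, odd_iff.2 χ.2.odd.2, fun g =>
        χ.2.sig k hk.two hk.odd g⟩
      invFun := fun χ => ⟨(χ.1 : G → ℂ), ?_⟩
      left_inv := fun _ => rfl
      right_inv := fun _ => rfl }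
  exact H740.K4.good_of_mem hM hk ⟨χ.1, χ.2.1, χ.2.2.1⟩ ((sigB_eq_iff hk _).2 χ.2.2.2)

/-- the subgroup generated by the squares of a cyclic group -/
theorem mem_sq_zpowers {x : G} {a : Subgroup.zpowers x} (ha : a ∈ Sq (Subgroup.zpowers x)) :
    ∃ i : ℤ, (a : G) = x ^ (2 * i) := by
  unfold Sq at ha
  induction ha using Subgroup.closure_induction with
  | mem y hy =>
    obtain ⟨⟨d, i, rfl⟩, rfl⟩ := hy
    refine ⟨i, ?_⟩
    show (x ^ i) ^ 2 = _
    rw [← zpow_natCast, ← zpow_mul, mul_comm]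
    norm_num
  | one => exact ⟨0, by simp⟩
  | mul y z _ _ hy hz =>
    obtain ⟨i, hi⟩ := hy
    obtain ⟨j, hj⟩ := hz
    exact ⟨i + j, by rw [Subgroup.coe_mul, hi, hj, mul_add, zpow_add]⟩
  | inv y _ hy =>
    obtain ⟨i, hi⟩ := hy
    exact ⟨-i, by rw [Subgroup.coe_inv, hi, mul_neg, zpow_neg]⟩

/-- A Sylow 2-subgroup with a central subgroup of index at most two is centralized by its normalizer. -/
theorem normalizer_le {C : Type*} [Group C] [Finite C] (T : Sylow 2 C) (Z : Subgroup C) (hZ : Z ≤ Subgroup.center C)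
    (hZT : Z ≤ T) (hidx : Nat.card (T : Subgroup C) ≤ 2 * Nat.card Z) :
    Subgroup.normalizer ((T : Subgroup C) : Set C) ≤ Subgroup.centralizer ((T : Subgroup C) : Set C) := by
  have hfact : Fact (Nat.Prime 2) := ⟨Nat.prime_two⟩
  -- two elements outside `Z` differ by an element of `Z`
  have hrel : (Z.subgroupOf (T : Subgroup C)).index ≤ 2 := by
    have h1 := (Z.subgroupOf (T : Subgroup C)).card_mul_index
    rw [Nat.card_congr (Subgroup.subgroupOfEquivOfLe hZT).toEquiv] at h1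
    have h2 : 0 < Nat.card Z := Nat.card_pos
    by_contra hcon
    push Not at hcon
    have h3 : Nat.card Z * 3 ≤ Nat.card Z * (Z.subgroupOf (T : Subgroup C)).index := Nat.mul_le_mul_left _ hcon
    omega
  have hdiff : ∀ a ∈ (T : Subgroup C), ∀ b ∈ (T : Subgroup C), a ∉ Z → b ∉ Z → a * b⁻¹ ∈ Z := by
    intro a ha b hb haZ hbZ
    by_contra hab
    have hfin : Finite ((T : Subgroup C) ⧸ Z.subgroupOf (T : Subgroup C)) := inferInstance
    have h1 : Nat.card ((T : Subgroup C) ⧸ Z.subgroupOf (T : Subgroup C)) ≤ 2 := hrel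
    let a' : (T : Subgroup C) := ⟨a, ha⟩
    let b' : (T : Subgroup C) := ⟨b, hb⟩
    have hinj : Function.Injective (![((1 : (T : Subgroup C)) : (T : Subgroup C) ⧸ Z.subgroupOf (T : Subgroup C)),
        ((a'⁻¹ : (T : Subgroup C)) : (T : Subgroup C) ⧸ Z.subgroupOf (T : Subgroup C)),
        ((b'⁻¹ : (T : Subgroup C)) : (T : Subgroup C) ⧸ Z.subgroupOf (T : Subgroup C))]) := by
      have e1 : ((1 : (T : Subgroup C)) : (T : Subgroup C) ⧸ Z.subgroupOf (T : Subgroup C)) ≠ (a'⁻¹ : (T : Subgroup C)) := by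
        rw [Ne, QuotientGroup.eq, Subgroup.mem_subgroupOf]
        intro h
        apply haZ
        simpa [a'] using h
      have e2 : ((1 : (T : Subgroup C)) : (T : Subgroup C) ⧸ Z.subgroupOf (T : Subgroup C)) ≠ (b'⁻¹ : (T : Subgroup C)) := by
        rw [Ne, QuotientGroup.eq, Subgroup.mem_subgroupOf]
        intro h
        apply hbZ
        simpa [b'] using h
      have e3 : ((a'⁻¹ : (T : Subgroup C)) : (T : Subgroup C) ⧸ Z.subgroupOf (T : Subgroup C)) ≠ (b'⁻¹ : (T : Subgroup C)) := by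
        rw [Ne, QuotientGroup.eq, Subgroup.mem_subgroupOf]
        intro h
        apply hab
        simpa [a', b'] using h
      intro i j hij
      fin_cases i <;> fin_cases j <;> simp_all
    have h2 := Nat.card_le_card_of_injective _ hinj
    rw [Nat.card_eq_fintype_card, Fintype.card_fin] at h2
    omega
  have hZc : ∀ z ∈ Z, ∀ g : C, g * z = z * g := fun z hz g => Subgroup.mem_center_iff.1 (hZ hz) g
  -- `T` is commutative
  have hTc : ∀ a ∈ (T : Subgroup C), ∀ b ∈ (T : Subgroup C), a * b = b * a := by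
    intro a ha b hb
    by_cases haZ : a ∈ Z
    · exact (hZc a haZ b).symm
    by_cases hbZ : b ∈ Z
    · exact hZc b hbZ a
    have h1 := hZc _ (hdiff a ha b hb haZ hbZ) b
    have h2 : b * (a * b⁻¹) * b = a * b⁻¹ * b * b := by rw [h1]
    rw [inv_mul_cancel_right] at h2
    rw [← h2]
    group
  intro g hg
  -- the commutators with `g` lie in `Z`
  have hcom : ∀ h ∈ Subgroup.normalizer ((T : Subgroup C) : Set C), ∀ t ∈ (T : Subgroup C), ∃ c ∈ Z, h * t * h⁻¹ = c * t := by
    intro h hh t ht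
    by_cases htZ : t ∈ Z
    · exact ⟨1, Z.one_mem, by rw [hZc t htZ h]; group⟩
    · have h1 : h * t * h⁻¹ ∈ (T : Subgroup C) := (Subgroup.mem_normalizer_iff.1 hh t).1 ht
      have h2 : h * t * h⁻¹ ∉ Z := by
        intro h3
        apply htZ
        have h4 := hZc _ h3 h⁻¹
        have h5 : h⁻¹ * (h * t * h⁻¹) = t * h⁻¹ := by group
        rw [h5] at h4
        have h6 : t = h * t * h⁻¹ := by
          have h7 : t * h⁻¹ * h = h * t * h⁻¹ * h⁻¹ * h := by rw [h4]
          rw [inv_mul_cancel_right, inv_mul_cancel_right] at h7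
          exact h7
        rw [h6]; exact h3
      exact ⟨_, hdiff _ h1 t ht h2 htZ, by group⟩
  have hpow : ∀ h ∈ Subgroup.normalizer ((T : Subgroup C) : Set C), Odd (orderOf h) →
      h ∈ Subgroup.centralizer ((T : Subgroup C) : Set C) := by
    intro h hh hodd
    rw [Subgroup.mem_centralizer_iff]
    intro t ht
    obtain ⟨c, hc, hct⟩ := hcom h hh t ht
    have h1 : ∀ m : ℕ, h ^ m * t * (h ^ m)⁻¹ = c ^ m * t := by
      intro m
      induction m with
      | zero => simp
      | succ m ih =>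
        have h2 : h ^ (m + 1) * t * (h ^ (m + 1))⁻¹ = h * (h ^ m * t * (h ^ m)⁻¹) * h⁻¹ := by
          rw [pow_succ' h m]; group
        rw [h2, ih]
        have h3 : h * (c ^ m * t) * h⁻¹ = c ^ m * (h * t * h⁻¹) := by
          have h4 := hZc _ (Z.pow_mem hc m) h
          rw [← mul_assoc, h4]; group
        rw [h3, hct, pow_succ, mul_assoc]
    have h2 := h1 (orderOf h)
    rw [pow_orderOf_eq_one] at h2
    have h3 : c ^ orderOf h = 1 := by
      have : c ^ orderOf h * t = 1 * t := by rw [← h2]; group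
      exact mul_right_cancel this
    have h4 : IsPGroup 2 (T : Subgroup C) := T.isPGroup'
    obtain ⟨j, hj⟩ := IsPGroup.iff_orderOf.1 h4 ⟨c, hZT hc⟩
    rw [Subgroup.orderOf_mk] at hj
    have h5 := orderOf_dvd_of_pow_eq_one h3
    have h6 : orderOf c = 1 := by
      rw [hj] at h5 ⊢
      have h7 : Nat.Coprime (2 ^ j) (orderOf h) := Nat.Coprime.pow_left _ (Nat.coprime_two_left.2 hodd)
      exact Nat.Coprime.eq_one_of_dvd h7 h5
    rw [orderOf_eq_one_iff] at h6
    rw [h6, one_mul] at hct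
    have : h * t * h⁻¹ * h = t * h := by rw [hct]
    rw [inv_mul_cancel_right] at this
    exact this.symm
  have hpow2 : ∀ h ∈ Subgroup.normalizer ((T : Subgroup C) : Set C), (∃ j : ℕ, orderOf h = 2 ^ j) →
      h ∈ Subgroup.centralizer ((T : Subgroup C) : Set C) := by
    intro h hh hj
    obtain ⟨j, hj⟩ := hj
    have h1 : IsPGroup 2 (Subgroup.zpowers h) := IsPGroup.of_card (n := j) (by rw [Nat.card_zpowers, hj])
    have h2 := h1.inf_normalizer_sylow T
    have h3 : h ∈ Subgroup.zpowers h ⊓ Subgroup.normalizer ((T : Subgroup C) : Set C) :=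
      ⟨Subgroup.mem_zpowers h, hh⟩
    have h4 : h ∈ Subgroup.zpowers h ⊓ (T : Subgroup C) := by
      rw [← h2]; exact h3
    rw [Subgroup.mem_centralizer_iff]
    intro t ht
    exact hTc t ht h h4.2
  -- Bezout
  obtain ⟨s, m, hm, hsm⟩ : ∃ s m : ℕ, Odd m ∧ orderOf g = 2 ^ s * m := by
    obtain ⟨s, m, hm, h⟩ := Nat.exists_eq_two_pow_mul_odd (orderOf_pos g).ne'
    exact ⟨s, m, hm, h⟩
  have hmpos : 0 < m := hm.pos
  have h1 : g ^ 2 ^ s ∈ Subgroup.centralizer ((T : Subgroup C) : Set C) := by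
    refine hpow _ (Subgroup.pow_mem _ hg _) ?_
    rw [orderOf_pow, hsm, Nat.gcd_eq_right (Dvd.intro _ rfl), Nat.mul_div_cancel_left _ (by positivity)]
    exact hm
  have h2 : g ^ m ∈ Subgroup.centralizer ((T : Subgroup C) : Set C) := by
    refine hpow2 _ (Subgroup.pow_mem _ hg _) ⟨s, ?_⟩
    rw [orderOf_pow, hsm, Nat.gcd_eq_right (Dvd.intro_left _ rfl), Nat.mul_div_cancel _ hmpos]
  have h3 : Nat.Coprime (2 ^ s) m := Nat.Coprime.pow_left _ (Nat.coprime_two_left.2 hm)
  have h4 : g = (g ^ 2 ^ s) ^ (Nat.gcdA (2 ^ s) m) * (g ^ m) ^ (Nat.gcdB (2 ^ s) m) := by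
    have h5 := Nat.gcd_eq_gcd_ab (2 ^ s) m
    rw [h3] at h5
    rw [← zpow_natCast g (2 ^ s), ← zpow_natCast g m, ← zpow_mul, ← zpow_mul, ← zpow_add, ← h5, Nat.cast_one, zpow_one]
  rw [h4]
  exact mul_mem (zpow_mem h1 _) (zpow_mem h2 _)

/-- **`XCond G`: at most four good characters.** -/
theorem _root_.Cfsg.Agent.H821.K547.XCond.fg_le [Finite G] (h : XCond G) : fg G ≤ 4 := by
  classical
  have hfact : Fact (Nat.Prime 2) := ⟨Nat.prime_two⟩
  obtain ⟨x, n, hx, hN⟩ := h
  obtain ⟨M, hM⟩ := Cfsg.Agent.Blocks.ExistsModular.exists_isPModular Nat.prime_two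
  obtain ⟨k, hk⟩ := H740.K4.exists_cube G
  rw [fg_eq_fnum hM hk]
  set D := Subgroup.zpowers x with hDdef
  have hDcard : Nat.card D = 2 ^ n := by rw [hDdef, Nat.card_zpowers, hx]
  have hD : IsPGroup 2 D := IsPGroup.of_card hDcard
  have hxD : x ∈ D := Subgroup.mem_zpowers x
  set Nz := Subgroup.normalizer (D : Set G) with hNz
  set C := Subgroup.centralizer (D : Set G) with hC
  -- the elements of the coset
  have hz : ∀ a : Sq D, Subgroup.zpowers (cz ⟨x, hxD⟩ a) = D := by
    intro a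
    obtain ⟨i, hi⟩ := mem_sq_zpowers a.2
    have h1 : cz ⟨x, hxD⟩ a = x ^ (1 + 2 * i) := by
      rw [zpow_add, zpow_one, ← hi]
      rfl
    rw [h1, hDdef]
    apply le_antisymm
    · rw [Subgroup.zpowers_le]
      exact Subgroup.zpow_mem_zpowers x _
    · rw [Subgroup.zpowers_le]
      have hco : IsCoprime (1 + 2 * i) ((2 : ℤ) ^ n) := by
        apply IsCoprime.pow_right
        exact ⟨1, -i, by ring⟩
      obtain ⟨u, v, huv⟩ := hco
      refine ⟨u, ?_⟩
      have h2 : x ^ ((2 : ℤ) ^ n) = 1 := by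
        have h3 : x ^ (2 ^ n) = 1 := by rw [← hx]; exact pow_orderOf_eq_one x
        rw [← h3, ← zpow_natCast]
        norm_num
      show (x ^ (1 + 2 * i)) ^ u = x
      have h4 : x = x ^ (u * (1 + 2 * i) + v * 2 ^ n) := by rw [huv, zpow_one]
      rw [zpow_add, mul_comm v, zpow_mul x (2 ^ n) v, h2, one_zpow, mul_one] at h4
      rw [← zpow_mul, mul_comm]
      exact h4.symm
  have hcent : ∀ a : Sq D, Subgroup.centralizer ({cz ⟨x, hxD⟩ a} : Set G) = C := by
    intro a
    have e := hz a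
    ext g
    rw [Subgroup.mem_centralizer_singleton_iff]
    constructor
    · intro h1
      rw [hC, Subgroup.mem_centralizer_iff]
      intro w hw
      have hw' : w ∈ Subgroup.zpowers (cz ⟨x, hxD⟩ a) := by rw [e]; exact hw
      obtain ⟨m, rfl⟩ := hw'
      exact ((show Commute (cz ⟨x, hxD⟩ a) g from h1.symm).zpow_left m)
    · intro h1
      have hw : cz ⟨x, hxD⟩ a ∈ D := SetLike.coe_mem ((⟨x, hxD⟩ : D) * (a : D))
      exact (Subgroup.mem_centralizer_iff.1 h1 _ hw).symm
  -- the index of the centralizer in the normalizer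
  have hJ : ∃ j, C.relIndex Nz = 2 ^ j := by
    have h1 := Cfsg.Agent.Blocks.SylowColumns.card_range D
    have h2 : Nat.card D.normalizerMonoidHom.range ∣ Nat.card (MulAut D) := Subgroup.card_subgroup_dvd_card _
    rw [h1] at h2
    have hcyc : IsCyclic D := by rw [hDdef]; infer_instance
    rw [IsCyclic.card_mulAut, hDcard] at h2
    rcases n with _ | n
    · rw [pow_zero, Nat.totient_one, Nat.dvd_one] at h2
      exact ⟨0, h2⟩
    · rw [Nat.totient_prime_pow_succ Nat.prime_two, show (2 : ℕ) - 1 = 1 from rfl, mul_one] at h2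
      obtain ⟨j, -, hj⟩ := (Nat.dvd_prime_pow Nat.prime_two).1 h2
      exact ⟨j, hj⟩
  obtain ⟨j, hj⟩ := hJ
  have hCN : C ≤ Nz := Subgroup.centralizer_le_normalizer _
  have hcardN : Nat.card C * 2 ^ j = Nat.card Nz := by
    rw [← hj, Subgroup.relIndex]
    have h1 := (C.subgroupOf Nz).card_mul_index
    rwa [Nat.card_congr (Subgroup.subgroupOfEquivOfLe hCN).toEquiv] at h1
  have hv : (Nat.card C).factorization 2 + j ≤ n + 1 := by
    by_contra hcon
    push Not at hcon
    apply hN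
    rw [← hcardN]
    have h1 : 2 ^ (Nat.card C).factorization 2 ∣ Nat.card C := Nat.ordProj_dvd _ _
    calc 2 ^ (n + 2) ∣ 2 ^ ((Nat.card C).factorization 2 + j) := pow_dvd_pow _ hcon
      _ = 2 ^ (Nat.card C).factorization 2 * 2 ^ j := pow_add _ _ _
      _ ∣ _ := mul_dvd_mul_right h1 _
  -- the number of the conjugates in the coset
  have hconj : ∀ a : Sq D, Nat.card {b : Sq D // IsConj (cz ⟨x, hxD⟩ a) (cz ⟨x, hxD⟩ b)} ≤ 2 ^ j := by
    intro a
    choose f hf using fun b : {b : Sq D // IsConj (cz ⟨x, hxD⟩ a) (cz ⟨x, hxD⟩ b)} => isConj_iff.1 b.2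
    have hfN : ∀ b, f b ∈ Nz := by
      intro b
      have h1 : ∀ m : ℤ, f b * (cz ⟨x, hxD⟩ a) ^ m * (f b)⁻¹ = (cz ⟨x, hxD⟩ b.1) ^ m := by
        intro m
        rw [← hf b, conj_zpow]
      have h2 : D.map (MulAut.conj (f b)).toMonoidHom = D := by
        conv_lhs => rw [← hz a]
        rw [MonoidHom.map_zpowers]
        show Subgroup.zpowers (f b * cz ⟨x, hxD⟩ a * (f b)⁻¹) = D
        rw [hf b]
        exact hz b.1
      rw [hNz, Subgroup.mem_normalizer_iff]
      intro y
      constructor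
      · intro hy
        rw [← h2]
        exact ⟨y, hy, rfl⟩
      · intro hy
        rw [← h2] at hy
        obtain ⟨y', hy', hyy⟩ := hy
        have h3 : f b * y' * (f b)⁻¹ = f b * y * (f b)⁻¹ := hyy
        have h4 : y' = y := mul_left_cancel (mul_right_cancel h3)
        rw [← h4]; exact hy'
    have hinj : Function.Injective fun p : {b : Sq D // IsConj (cz ⟨x, hxD⟩ a) (cz ⟨x, hxD⟩ b)} × C =>
        (⟨f p.1 * p.2, Nz.mul_mem (hfN p.1) (hCN p.2.2)⟩ : Nz) := by
      rintro ⟨b, c⟩ ⟨b', c'⟩ h1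
      have h2 : f b * c = f b' * c' := congrArg Subtype.val h1
      have hcomm : ∀ c : C, (c : G) * cz ⟨x, hxD⟩ a * (c : G)⁻¹ = cz ⟨x, hxD⟩ a := by
        intro c
        have h3 : (c : G) ∈ Subgroup.centralizer ({cz ⟨x, hxD⟩ a} : Set G) := by rw [hcent a]; exact c.2
        rw [Subgroup.mem_centralizer_singleton_iff] at h3
        rw [h3]; group
      have h3 : (f b * c) * cz ⟨x, hxD⟩ a * (f b * c)⁻¹ = cz ⟨x, hxD⟩ b.1 := by
        calc (f b * c) * cz ⟨x, hxD⟩ a * (f b * c)⁻¹ = f b * ((c : G) * cz ⟨x, hxD⟩ a * (c : G)⁻¹) * (f b)⁻¹ := by group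
          _ = _ := by rw [hcomm c]; exact hf b
      have h4 : (f b' * c') * cz ⟨x, hxD⟩ a * (f b' * c')⁻¹ = cz ⟨x, hxD⟩ b'.1 := by
        calc (f b' * c') * cz ⟨x, hxD⟩ a * (f b' * c')⁻¹ = f b' * ((c' : G) * cz ⟨x, hxD⟩ a * (c' : G)⁻¹) * (f b')⁻¹ := by group
          _ = _ := by rw [hcomm c']; exact hf b'
      have h5 : cz ⟨x, hxD⟩ b.1 = cz ⟨x, hxD⟩ b'.1 := by rw [← h3, ← h4, h2]
      have h6 : b = b' := by
        apply Subtype.ext
        apply Subtype.ext
        exact mul_left_cancel (Subtype.ext h5)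
      subst h6
      rw [mul_right_inj] at h2
      rw [Subtype.ext h2]
    have h1 := Nat.card_le_card_of_injective _ hinj
    rw [Nat.card_prod, ← hcardN, mul_comm] at h1
    exact Nat.le_of_mul_le_mul_left h1 Nat.card_pos
  -- the order of the subgroup of squares
  have hsq : Nat.card D ≤ 2 * Nat.card (Sq D) := by
    have hsurj : Function.Surjective fun p : Bool × Sq D => (if p.1 then (⟨x, hxD⟩ : D) else 1) * (p.2 : D) := by
      rintro ⟨y, m, rfl⟩
      rcases Int.even_or_odd' m with ⟨c, rfl | rfl⟩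
      · refine ⟨(false, ⟨⟨x ^ (2 * c), ⟨_, rfl⟩⟩, ?_⟩), ?_⟩
        · have : (⟨x ^ (2 * c), ⟨_, rfl⟩⟩ : D) = (⟨x ^ c, ⟨_, rfl⟩⟩ : D) ^ 2 := by
            apply Subtype.ext
            show x ^ (2 * c) = (x ^ c) ^ 2
            rw [← zpow_natCast, ← zpow_mul, mul_comm]; norm_num
          rw [this]
          exact sq_mem _
        · apply Subtype.ext
          simp
      · refine ⟨(true, ⟨⟨x ^ (2 * c), ⟨_, rfl⟩⟩, ?_⟩), ?_⟩
        · have : (⟨x ^ (2 * c), ⟨_, rfl⟩⟩ : D) = (⟨x ^ c, ⟨_, rfl⟩⟩ : D) ^ 2 := by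
            apply Subtype.ext
            show x ^ (2 * c) = (x ^ c) ^ 2
            rw [← zpow_natCast, ← zpow_mul, mul_comm]; norm_num
          rw [this]
          exact sq_mem _
        · apply Subtype.ext
          show x * x ^ (2 * c) = x ^ (2 * c + 1)
          rw [add_comm, zpow_add, zpow_one]
    have h1 := Nat.card_le_card_of_surjective _ hsurj
    rw [Nat.card_prod, Nat.card_eq_fintype_card (α := Bool), Fintype.card_bool] at h1
    exact h1
  refine card_le hM hk D hD ⟨x, hxD⟩ 4 (fun a => ?_) (fun a => ?_)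
  · rw [hcent a]
    obtain ⟨T⟩ : Nonempty (Sylow 2 C) := inferInstance
    have hxC : x ∈ C := by
      rw [hC, Subgroup.mem_centralizer_iff]
      rintro w ⟨m, rfl⟩
      exact ((Commute.refl x).zpow_left m)
    set xC : C := ⟨x, hxC⟩ with hxCdef
    have hxord : orderOf xC = 2 ^ n := by rw [hxCdef, Subgroup.orderOf_mk, hx]
    have hxcent : xC ∈ Subgroup.center C := by
      rw [Subgroup.mem_center_iff]
      intro g
      apply Subtype.ext
      exact (Subgroup.mem_centralizer_iff.1 g.2 x hxD).symm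
    refine Cfsg.Agent.Blocks.QuaternionCount.exists_index_pPrimeCore T
      (normalizer_le T (Subgroup.zpowers xC) ?_ ?_ ?_)
    · rw [Subgroup.zpowers_le]; exact hxcent
    · rw [Subgroup.zpowers_le]
      exact Cfsg.Agent.Blocks.QuaternionCount.mem_sylow_of_central T xC hxcent ⟨n, hxord⟩
    · rw [Nat.card_zpowers, hxord, T.card_eq_multiplicity, mul_comm, ← pow_succ]
      exact Nat.pow_le_pow_right (by norm_num) (by omega)
  · rw [hcent a]
    have h1 := hconj a
    have h2 : 2 ^ j * 2 ^ (Nat.card C).factorization 2 ≤ 2 ^ (n + 1) := by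
      rw [← pow_add, add_comm]
      exact Nat.pow_le_pow_right (by norm_num) hv
    rw [hDcard] at hsq
    calc Nat.card {b : Sq D // IsConj (cz ⟨x, hxD⟩ a) (cz ⟨x, hxD⟩ b)} * 2 ^ (Nat.card C).factorization 2
        ≤ 2 ^ j * 2 ^ (Nat.card C).factorization 2 := Nat.mul_le_mul_right _ h1
      _ ≤ 2 ^ (n + 1) := h2
      _ ≤ _ := by rw [pow_succ]; omega

end Cfsg.Agent.H714.S4547
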