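import Cfsg.Agent.H618.Sigma
import Cfsg.Agent.OddOrderCharacters.ClassSum
import Cfsg.Agent.Characters.Linear
import Cfsg.Agent.Characters.Central
import Cfsg.Agent.Blocks.CyclicUpper

/-!
# S4547: the average over a coset of the Frattini subgroup (helper714)

`D` a finite 2-group, `Sq D` the subgroup generated by the squares, `θ` a character of odd degree fixed by the
cubing automorphism. For every `x : D` the sum of `θ` over the coset `x * Sq D` is `|Sq D|` times an odd integer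
(`sum_coset_odd`).
-/

set_option autoImplicit false

open scoped ComplexConjugate
open Cfsg Cfsg.Agent.Characters.Core Cfsg.Agent.H618.Sigma

namespace Cfsg.Agent.H714.S4547

universe u

/-- the subgroup generated by the squares -/
def Sq (D : Type u) [Group D] : Subgroup D := Subgroup.closure (Set.range fun d : D => d ^ 2)

variable {D : Type u} [Group D]

theorem sq_mem (d : D) : d ^ 2 ∈ Sq D := Subgroup.subset_closure ⟨d, rfl⟩

instance : (Sq D).Normal := by
  constructor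
  intro n hn g
  unfold Sq at hn ⊢
  induction hn using Subgroup.closure_induction with
  | mem x hx =>
    obtain ⟨d, rfl⟩ := hx
    refine Subgroup.subset_closure ⟨g * d * g⁻¹, ?_⟩
    simp only [sq]
    group
  | one => simp
  | mul a b _ _ ha hb =>
    have : g * (a * b) * g⁻¹ = (g * a * g⁻¹) * (g * b * g⁻¹) := by group
    rw [this]
    exact mul_mem ha hb
  | inv a _ ha =>
    have : g * a⁻¹ * g⁻¹ = (g * a * g⁻¹)⁻¹ := by group
    rw [this]
    exact inv_mem ha

/-- linear with values `1` and `-1` -/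
def RL (ψ : D → ℂ) : Prop := ψ 1 = 1 ∧ ∀ g, ψ g = 1 ∨ ψ g = -1

/-- A real linear character is constant on the cosets of `Sq D`. -/
theorem RL.mul_sq {ψ : D → ℂ} (hψ : IsIrrCharacter D ψ) (h : RL ψ) (x : D) {a : D} (ha : a ∈ Sq D) :
    ψ (x * a) = ψ x := by
  obtain ⟨f, rfl⟩ := Cfsg.Agent.Characters.Linear.exists_hom_of_isIrrCharacter hψ h.1
  have h1 : Sq D ≤ f.ker := by
    unfold Sq
    rw [Subgroup.closure_le]
    rintro _ ⟨d, rfl⟩
    show f (d ^ 2) = 1
    apply Units.ext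
    rw [map_pow, Units.val_pow_eq_pow_val, Units.val_one]
    have h3 : ((f d : ℂˣ) : ℂ) = 1 ∨ ((f d : ℂˣ) : ℂ) = -1 := h.2 d
    rcases h3 with h2 | h2 <;> rw [h2] <;> norm_num
  show ((f (x * a) : ℂˣ) : ℂ) = f x
  rw [map_mul, MonoidHom.mem_ker.1 (h1 ha), mul_one]

/-- The other irreducible characters sum to zero over the cosets of `Sq D`. -/
theorem sum_eq_zero [Finite D] [Fintype (Sq D)] {ψ : D → ℂ} (hψ : IsIrrCharacter D ψ) (h : ¬ RL ψ) (x : D) :
    ∑ a : Sq D, ψ (x * a) = 0 := by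
  classical
  have := Fintype.ofFinite D
  obtain ⟨n, ρ, hρ, rfl⟩ := hψ
  let S : Finset D := Finset.univ.filter (· ∈ Sq D)
  have hS : ∀ y, y ∈ S ↔ y ∈ Sq D := fun y => by simp [S]
  obtain ⟨c, hc⟩ := Cfsg.Agent.OddOrderCharacters.ClassSum.invariant_sum_scalar ρ hρ S
    (fun g y hy => (hS _).2 ((inferInstance : (Sq D).Normal).conj_mem y ((hS y).1 hy) g))
  have hsum : ∑ a : Sq D, ρ.character (x * a) = LinearMap.trace ℂ _ (ρ x * ∑ y ∈ S, ρ y) := by
    rw [Finset.mul_sum, map_sum, Finset.sum_subtype S (p := (· ∈ Sq D)) (fun y => hS y)]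
    refine Finset.sum_congr rfl fun a _ => ?_
    rw [← map_mul]
    rfl
  by_cases h0 : c = 0
  · rw [hsum, hc, h0, zero_smul, mul_zero, map_zero]
  exfalso
  apply h
  -- the kernel contains `Sq D`
  have hker : ∀ a ∈ Sq D, ρ a = 1 := by
    intro a ha
    have h1 : ρ a * ∑ y ∈ S, ρ y = ∑ y ∈ S, ρ y := by
      rw [Finset.mul_sum]
      refine Finset.sum_bij' (fun y _ => a * y) (fun y _ => a⁻¹ * y) ?_ ?_ ?_ ?_ ?_
      · intro y hy
        exact (hS _).2 ((Sq D).mul_mem ha ((hS y).1 hy))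
      · intro y hy
        exact (hS _).2 ((Sq D).mul_mem ((Sq D).inv_mem ha) ((hS y).1 hy))
      · intro y _; group
      · intro y _; group
      · intro y _
        rw [map_mul]
    rw [hc, mul_smul_comm, mul_one] at h1
    exact smul_right_injective _ h0 h1
  have hsq : ∀ g, ρ g * ρ g = 1 := fun g => by
    rw [← map_mul, ← sq]
    exact hker _ (sq_mem g)
  have hcomm : ∀ g k, ρ g * ρ k = ρ k * ρ g := by
    intro g k
    have h1 := hsq (g * k)
    rw [map_mul] at h1
    calc ρ g * ρ k = ρ g * ρ k * (ρ k * ρ g * (ρ g * ρ k)) := by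
          rw [mul_assoc (ρ k), ← mul_assoc (ρ g) (ρ g), hsq, one_mul, hsq, mul_one]
      _ = (ρ g * (ρ k * ρ k) * ρ g) * (ρ g * ρ k) := by simp only [mul_assoc]
      _ = ρ g * ρ k := by rw [hsq, mul_one, hsq, one_mul]
      _ = (ρ k * ρ g) * ((ρ g * ρ k) * (ρ g * ρ k)) := by
          calc ρ g * ρ k = (ρ k * (ρ g * ρ g) * ρ k) * (ρ g * ρ k) := by rw [hsq, mul_one, hsq, one_mul]
            _ = (ρ k * ρ g) * ((ρ g * ρ k) * (ρ g * ρ k)) := by simp only [mul_assoc]
      _ = ρ k * ρ g := by rw [h1, mul_one]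
  have hscal : ∀ g, ∃ e : ℂ, ρ g = e • (1 : Module.End ℂ (Fin n → ℂ)) ∧ (e = 1 ∨ e = -1) := by
    intro g
    obtain ⟨e, he⟩ := Cfsg.Agent.Characters.Central.exists_smul_of_comm ρ hρ (ρ g) (fun k => hcomm g k)
    refine ⟨e, he, ?_⟩
    have h1 := hsq g
    rw [he, smul_mul_smul_comm, one_mul] at h1
    have hn : (1 : Module.End ℂ (Fin n → ℂ)) ≠ 0 := by
      intro h2
      apply Cfsg.Agent.Characters.Central.char_one_ne_zero ρ hρ
      change LinearMap.trace ℂ (Fin n → ℂ) (ρ 1) = 0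
      rw [map_one, h2, map_zero]
    have h3 : (e * e) • (1 : Module.End ℂ (Fin n → ℂ)) = (1 : ℂ) • (1 : Module.End ℂ (Fin n → ℂ)) := by
      rw [h1, one_smul]
    have h4 := (smul_left_inj hn).1 h3
    exact mul_self_eq_one_iff.1 h4
  have hval : ∀ g, ∃ e : ℂ, ρ.character g = e * ρ.character 1 ∧ (e = 1 ∨ e = -1) := by
    intro g
    obtain ⟨e, he, he2⟩ := hscal g
    refine ⟨e, ?_, he2⟩
    change LinearMap.trace ℂ _ (ρ g) = e * LinearMap.trace ℂ _ (ρ 1)
    rw [he, map_one, map_smul, smul_eq_mul]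
  have hirr : IsIrrCharacter D ρ.character := ⟨n, ρ, hρ, rfl⟩
  obtain ⟨m, hm0, hm⟩ := isIrr_apply_one hirr
  have hself := classInner_irr_self hirr
  rw [classInner_def] at hself
  have hterm : ∀ g : D, ρ.character g * conj (ρ.character g) = (m : ℂ) * m := by
    intro g
    obtain ⟨e, he, he2⟩ := hval g
    rw [he, hm, map_mul, Complex.conj_natCast]
    rcases he2 with rfl | rfl
    · simp
    · simp
  rw [Finset.sum_congr rfl fun g _ => hterm g, Finset.sum_const, nsmul_eq_mul, Finset.card_univ,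
    Fintype.card_eq_nat_card, inv_mul_cancel_left₀ card_ne_zero_complex] at hself
  have hm1 : m = 1 := by
    have : m * m = 1 := by exact_mod_cast hself
    exact Nat.eq_one_of_mul_eq_one_left this
  subst hm1
  refine ⟨by rw [hm]; norm_num, fun g => ?_⟩
  obtain ⟨e, he, he2⟩ := hval g
  rw [he, hm]
  rcases he2 with rfl | rfl
  · left; norm_num
  · right; norm_num

/-- The real linear characters are the fixed characters of odd degree. -/
theorem rl_iff [Finite D] {k : ℕ} (hD : IsPGroup 2 D) (hk : Cube D k) (ψ : IrrCharacter D) :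
    RL (ψ : D → ℂ) ↔ sig hk ψ = ψ ∧ Odd (charDegree (ψ : D → ℂ)) := by
  have hpow : ∀ g : D, ∃ j : ℕ, orderOf g = 2 ^ j := fun g => by
    have : Fact (Nat.Prime 2) := ⟨Nat.prime_two⟩
    exact (IsPGroup.iff_orderOf.1 hD) g
  constructor
  · intro h
    constructor
    · rw [sig_eq_iff]
      intro g
      rw [hk.two g (hpow g)]
      have h1 := h.mul_sq ψ.2 g (sq_mem g)
      rw [← pow_succ'] at h1
      exact h1
    · have h1 := h.1
      rw [Cfsg.Agent.Blocks.Basic.irr_one_eq_charDegree ψ.2] at h1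
      have : charDegree (ψ : D → ℂ) = 1 := by exact_mod_cast h1
      rw [this]
      exact odd_one
  · rintro ⟨h1, h2⟩
    have hdeg : charDegree (ψ : D → ℂ) ∣ Nat.card D := Cfsg.Agent.Blocks.CyclicUpper.charDegree_dvd ψ.2
    obtain ⟨n, hn⟩ := IsPGroup.iff_card.1 hD
    rw [hn] at hdeg
    obtain ⟨i, -, hi⟩ := (Nat.dvd_prime_pow Nat.prime_two).1 hdeg
    have hi0 : i = 0 := by
      by_contra hne
      rw [hi] at h2
      exact (Nat.not_even_iff_odd.2 h2) ((Nat.even_pow.2 ⟨even_two, hne⟩))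
    rw [hi0, pow_zero] at hi
    have hone : (ψ : D → ℂ) 1 = 1 := by
      rw [Cfsg.Agent.Blocks.Basic.irr_one_eq_charDegree ψ.2, hi, Nat.cast_one]
    refine ⟨hone, fun g => ?_⟩
    obtain ⟨f, hf⟩ := Cfsg.Agent.Characters.Linear.exists_hom_of_isIrrCharacter ψ.2 hone
    have h3 := (sig_eq_iff hk ψ).1 h1 g
    rw [hk.two g (hpow g), hf] at h3
    have h4 : ((f g : ℂˣ) : ℂ) ^ 3 = f g := by
      have : ((f (g ^ 3) : ℂˣ) : ℂ) = f g := h3
      rw [map_pow, Units.val_pow_eq_pow_val] at this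
      exact this
    have h5 : ((f g : ℂˣ) : ℂ) * ((f g : ℂˣ) : ℂ) = 1 := by
      have hne : ((f g : ℂˣ) : ℂ) ≠ 0 := Units.ne_zero _
      apply mul_right_cancel₀ hne
      rw [one_mul]
      calc ((f g : ℂˣ) : ℂ) * (f g : ℂˣ) * (f g : ℂˣ) = ((f g : ℂˣ) : ℂ) ^ 3 := by ring
        _ = _ := h4
    rw [hf]
    exact mul_self_eq_one_iff.1 h5

/-- **The sum over a coset.** -/
theorem sum_coset_odd [Finite D] [Fintype (Sq D)] {k : ℕ} (hD : IsPGroup 2 D) (hk : Cube D k) {θ : D → ℂ}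
    (hθ : IsCharacter D θ) (hfix : ∀ g, θ (g ^ k) = θ g) {d : ℕ} (hd : θ 1 = d) (hodd : Odd d) (x : D) :
    ∃ a : ℤ, Odd a ∧ ∑ y : Sq D, θ (x * y) = (Nat.card (Sq D) : ℂ) * a := by
  classical
  have := Fintype.ofFinite D
  have hfin : Finite (IrrCharacter D) := finite_irr
  have := Fintype.ofFinite (IrrCharacter D)
  choose m hm using fun ψ : IrrCharacter D => classInner_isNat hθ (isIrr_isCharacter ψ.2)
  have hexp : ∀ g, θ g = ∑ ψ : IrrCharacter D, (m ψ : ℂ) * (ψ : D → ℂ) g := by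
    intro g
    have h1 := congrFun (classFunction_eq_sum (isCharacter_isClassFunction hθ)) g
    rw [h1, Finset.sum_apply]
    refine Finset.sum_congr rfl fun ψ _ => ?_
    rw [Pi.smul_apply, smul_eq_mul, hm ψ]
  -- the multiplicities are invariant
  have hinv : ∀ ψ : IrrCharacter D, m (sig hk ψ) = m ψ := by
    intro ψ
    have h1 : (m (sig hk ψ) : ℂ) = m ψ := by
      rw [← hm, ← hm, classInner_def, classInner_def]
      congr 1
      have hb : Function.Bijective fun g : D => g ^ k := by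
        rw [← Finite.injective_iff_bijective]
        intro a b hab
        obtain ⟨n, hn⟩ := hk.exists_iter
        have h2 : ∀ g : D, (g ^ k) ^ (k ^ (2 ^ n - 1)) = g := by
          intro g
          rw [← pow_mul, ← pow_succ', Nat.sub_add_cancel Nat.one_le_two_pow, hn]
        rw [← h2 a, ← h2 b]
        exact congrArg (· ^ (k ^ (2 ^ n - 1))) hab
      rw [← Function.Bijective.sum_comp hb fun g : D => θ g * conj ((ψ : D → ℂ) g)]
      refine (Finset.sum_congr rfl fun g _ => ?_)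
      rw [hfix, sig_apply]
    exact_mod_cast h1
  -- parity
  obtain ⟨n, hn⟩ := hk.exists_iter
  let Λ : Finset (IrrCharacter D) := Finset.univ.filter fun ψ : IrrCharacter D => RL (ψ : D → ℂ)
  have hΛ : ∀ ψ : IrrCharacter D, ψ ∈ Λ ↔ RL (ψ : D → ℂ) := fun ψ => by simp [Λ]
  have hsigit : ∀ ψ : IrrCharacter D, (sig hk)^[2 ^ n] ψ = ψ := fun ψ =>
    Subtype.ext (funext fun g => by rw [sig_iter, hn])
  have hpar := sum_fixed_perm (R := ZMod 2) (sig hk) n hsigit
    (fun ψ : IrrCharacter D => ((m ψ * charDegree (ψ : D → ℂ) : ℕ) : ZMod 2))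
    (fun ψ => by rw [hinv, charDegree_sig])
  have htot : ∑ ψ : IrrCharacter D, m ψ * charDegree (ψ : D → ℂ) = d := by
    have h1 := hexp 1
    rw [hd] at h1
    have h2 : (d : ℂ) = ((∑ ψ : IrrCharacter D, m ψ * charDegree (ψ : D → ℂ) : ℕ) : ℂ) := by
      rw [h1]
      push_cast
      refine Finset.sum_congr rfl fun ψ _ => ?_
      rw [Cfsg.Agent.Blocks.Basic.irr_one_eq_charDegree ψ.2]
    exact_mod_cast h2.symm
  have hodd2 : Odd (∑ ψ ∈ Λ, m ψ) := by
    rw [← Nat.cast_sum, htot] at hpar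
    have h1 : ∑ ψ : IrrCharacter D with sig hk ψ = ψ, ((m ψ * charDegree (ψ : D → ℂ) : ℕ) : ZMod 2) =
        ∑ ψ ∈ Λ, ((m ψ : ℕ) : ZMod 2) := by
      rw [Finset.sum_filter, Finset.sum_filter]
      refine Finset.sum_congr rfl fun ψ _ => ?_
      by_cases h2 : RL (ψ : D → ℂ)
      · have h3 := (rl_iff hD hk ψ).1 h2
        rw [if_pos h3.1, if_pos h2]
        have h4 := h2.1
        rw [Cfsg.Agent.Blocks.Basic.irr_one_eq_charDegree ψ.2] at h4
        have h5 : charDegree (ψ : D → ℂ) = 1 := by exact_mod_cast h4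
        rw [h5, mul_one]
      · rw [if_neg h2]
        split_ifs with h3
        · have h4 : Even (charDegree (ψ : D → ℂ)) := by
            rw [← Nat.not_odd_iff_even]
            exact fun h5 => h2 ((rl_iff hD hk ψ).2 ⟨h3, h5⟩)
          have h5 : ((m ψ * charDegree (ψ : D → ℂ) : ℕ) : ZMod 2) = 0 := by
            rw [ZMod.natCast_eq_zero_iff]
            exact (even_iff_two_dvd.1 h4).mul_left _
          exact h5
        · rfl
    rw [h1, ← Nat.cast_sum] at hpar
    have h2 : d ≡ ∑ ψ ∈ Λ, m ψ [MOD 2] :=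
      (ZMod.natCast_eq_natCast_iff _ _ _).1 hpar
    rw [Nat.odd_iff] at hodd ⊢
    rw [← h2, hodd]
  -- the value
  have hsgn : ∀ ψ : IrrCharacter D, RL (ψ : D → ℂ) → ∃ e : ℤ, (ψ : D → ℂ) x = e ∧ Odd e := by
    intro ψ h
    rcases h.2 x with h1 | h1
    · exact ⟨1, by rw [h1]; norm_num, odd_one⟩
    · exact ⟨-1, by rw [h1]; norm_num, by decide⟩
  choose! e he heo using hsgn
  refine ⟨∑ ψ ∈ Λ, (m ψ : ℤ) * e ψ, ?_, ?_⟩
  · have h1 : Odd (∑ ψ ∈ Λ, (m ψ : ℤ)) := by
      rw [← Nat.cast_sum, Int.odd_coe_nat]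
      exact hodd2
    have h2 : Even (∑ ψ ∈ Λ, ((m ψ : ℤ) * e ψ - (m ψ : ℤ))) := by
      rw [even_iff_two_dvd]
      refine Finset.dvd_sum fun ψ hψ => ?_
      obtain ⟨c, hc⟩ := heo ψ ((hΛ ψ).1 hψ)
      exact ⟨(m ψ : ℤ) * c, by rw [hc]; ring⟩
    rw [Finset.sum_sub_distrib] at h2
    have h3 := h2.add_odd h1
    rwa [sub_add_cancel] at h3
  · simp only [hexp]
    rw [Finset.sum_comm]
    have h1 : ∀ ψ : IrrCharacter D, ∑ y : Sq D, (m ψ : ℂ) * (ψ : D → ℂ) (x * y) =
        if RL (ψ : D → ℂ) then (Nat.card (Sq D) : ℂ) * ((m ψ : ℂ) * e ψ) else 0 := by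
      intro ψ
      rw [← Finset.mul_sum]
      split_ifs with h2
      · rw [Finset.sum_congr rfl fun (y : Sq D) _ => h2.mul_sq ψ.2 x y.2, Finset.sum_const, nsmul_eq_mul,
          Finset.card_univ, Fintype.card_eq_nat_card, he ψ h2]
        ring
      · rw [sum_eq_zero ψ.2 h2, mul_zero]
    rw [Finset.sum_congr rfl fun ψ _ => h1 ψ, ← Finset.sum_filter, ← Finset.mul_sum]
    push_cast
    rfl

end Cfsg.Agent.H714.S4547
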